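import Cfsg.Agent.H26.CIT3

set_option autoImplicit false
set_option linter.style.haveILetI false
set_option linter.unusedSectionVars false

/-! Groups whose involution centralizers are commutative (S2202): definitions and basic lemmas. -/

namespace Cfsg.Agent.H26.AIC

open Subgroup Cfsg.Agent.H26

/-- involution centralizers are commutative (elementwise form) -/
def Hyp (G : Type*) [Group G] : Prop :=
  ∀ t : G, orderOf t = 2 → ∀ a b : G, a * t = t * a → b * t = t * b → a * b = b * a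

/-- involution centralizers have exponent two (elementwise form) -/
def Exp2 (G : Type*) [Group G] : Prop :=
  ∀ t : G, orderOf t = 2 → ∀ c : G, c * t = t * c → c * c = 1

/-- no nontrivial normal subgroup of odd order -/
def NoOdd (G : Type*) [Group G] : Prop :=
  ∀ N : Subgroup G, N.Normal → Odd (Nat.card N) → N = ⊥

/-- a Sylow 2-subgroup that is neither cyclic nor normal -/
def Good {G : Type*} [Group G] (S : Sylow 2 G) : Prop :=
  ¬ IsCyclic (S : Subgroup G) ∧ ¬ (S : Subgroup G).Normal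

/-- the centralizer of a Sylow 2-subgroup -/
abbrev MT {G : Type*} [Group G] (T : Sylow 2 G) : Subgroup G :=
  Subgroup.centralizer ((T : Subgroup G) : Set G)

/-- the centralizers of distinct Sylow 2-subgroups meet trivially -/
def TIHyp (G : Type*) [Group G] : Prop :=
  ∀ P Q : Sylow 2 G, P ≠ Q → ∀ c : G, c ∈ MT P → c ∈ MT Q → c = 1

variable {G : Type*} [Group G]

theorem mem_MT (T : Sylow 2 G) (x : G) : x ∈ MT T ↔ ∀ s ∈ (T : Subgroup G), s * x = x * s :=
  Subgroup.mem_centralizer_iff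

theorem MT_le_NT (T : Sylow 2 G) : MT T ≤ NT T := Subgroup.centralizer_le_normalizer _

theorem sub_hyp (hH : Hyp G) (L : Subgroup G) : Hyp L := by
  intro t ht a b hat hbt
  have ht' : orderOf (t : G) = 2 := by rw [Subgroup.orderOf_coe]; exact ht
  have := hH (t : G) ht' a b (congrArg Subtype.val hat) (congrArg Subtype.val hbt)
  exact Subtype.ext this

theorem mem_smul_syl (g : G) (P : Sylow 2 G) (x : G) :
    x ∈ ((g • P : Sylow 2 G) : Subgroup G) ↔ g⁻¹ * x * g ∈ (P : Subgroup G) := by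
  rw [Sylow.coe_subgroup_smul, Subgroup.mem_pointwise_smul_iff_inv_smul_mem]
  simp [MulAut.smul_def, mul_assoc]

theorem smul_syl_eq_iff (g : G) (P : Sylow 2 G) : g • P = P ↔ g ∈ NT P :=
  Sylow.smul_eq_iff_mem_normalizer

theorem mem_MT_smul (g : G) (P : Sylow 2 G) (x : G) :
    x ∈ MT (g • P) ↔ g⁻¹ * x * g ∈ MT P := by
  rw [mem_MT, mem_MT]
  constructor
  · intro h s hs
    have h1 := h (g * s * g⁻¹) ((mem_smul_syl g P _).mpr (by simpa [mul_assoc] using hs))
    calc s * (g⁻¹ * x * g) = g⁻¹ * ((g * s * g⁻¹) * x) * g := by group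
      _ = g⁻¹ * (x * (g * s * g⁻¹)) * g := by rw [h1]
      _ = g⁻¹ * x * g * s := by group
  · intro h s hs
    have h1 := h (g⁻¹ * s * g) ((mem_smul_syl g P _).mp hs)
    calc s * x = g * ((g⁻¹ * s * g) * (g⁻¹ * x * g)) * g⁻¹ := by group
      _ = g * ((g⁻¹ * x * g) * (g⁻¹ * s * g)) * g⁻¹ := by rw [h1]
      _ = x * s := by group

theorem mem_NT_smul (g : G) (P : Sylow 2 G) (x : G) :
    x ∈ NT (g • P) ↔ g⁻¹ * x * g ∈ NT P := by
  rw [← smul_syl_eq_iff, ← smul_syl_eq_iff, smul_smul]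
  constructor
  · intro h
    have := congrArg (fun Q => g⁻¹ • Q) h
    simp only [smul_smul] at this
    rw [show g⁻¹ * x * g = g⁻¹ * (x * g) by group]
    simpa using this
  · intro h
    have := congrArg (fun Q => g • Q) h
    simp only [smul_smul] at this
    rw [show g * (g⁻¹ * x * g) = x * g by group] at this
    exact this

variable [Finite G]

theorem exists_syl_of_inv {t : G} (ht : orderOf t = 2) : ∃ P : Sylow 2 G, t ∈ (P : Subgroup G) := by
  have : Fact (Nat.Prime 2) := ⟨Nat.prime_two⟩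
  have hp : IsPGroup 2 (Subgroup.zpowers t) := by
    apply IsPGroup.of_card (n := 1)
    rw [Nat.card_zpowers, ht, pow_one]
  obtain ⟨P, hP⟩ := hp.exists_le_sylow
  exact ⟨P, hP (Subgroup.mem_zpowers t)⟩

theorem exists_conj_syl (P Q : Sylow 2 G) : ∃ g : G, g • P = Q := by
  have : Fact (Nat.Prime 2) := ⟨Nat.prime_two⟩
  exact MulAction.exists_smul_eq G P Q

/-- 2-elements of the normalizer of a Sylow 2-subgroup lie in it -/
theorem two_elt_NT_mem (T : Sylow 2 G) {x : G} (hx : x ∈ NT T) {k : ℕ} (hk : x ^ 2 ^ k = 1) :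
    x ∈ (T : Subgroup G) := by
  have : Fact (Nat.Prime 2) := ⟨Nat.prime_two⟩
  have hp : IsPGroup 2 (Subgroup.zpowers x) := by
    intro y
    obtain ⟨y, hy⟩ := y
    obtain ⟨n, rfl⟩ := Subgroup.mem_zpowers_iff.mp hy
    refine ⟨k, ?_⟩
    apply Subtype.ext
    show (x ^ n) ^ 2 ^ k = 1
    rw [← zpow_natCast, ← zpow_mul, mul_comm, zpow_mul, zpow_natCast, hk, one_zpow]
  have h1 := hp.inf_normalizer_sylow T
  have h2 : x ∈ Subgroup.zpowers x ⊓ Subgroup.normalizer ((T : Subgroup G) : Set G) :=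
    ⟨Subgroup.mem_zpowers x, hx⟩
  have h3 : x ∈ Subgroup.zpowers x ⊓ (T : Subgroup G) := by rw [← h1]; exact h2
  exact h3.2

theorem inv_NT_mem (T : Sylow 2 G) {s : G} (hs : orderOf s = 2) (hsN : s ∈ NT T) :
    s ∈ (T : Subgroup G) := cit_inv_mem_T T hs hsN

theorem exists_central_inv (T : Sylow 2 G) (hne : (T : Subgroup G) ≠ ⊥) :
    ∃ t₀ : G, t₀ ∈ (T : Subgroup G) ∧ orderOf t₀ = 2 ∧ ∀ a ∈ (T : Subgroup G), a * t₀ = t₀ * a := by
  have : Fact (Nat.Prime 2) := ⟨Nat.prime_two⟩
  have hnt : Nontrivial (T : Subgroup G) := (Subgroup.nontrivial_iff_ne_bot _).mpr hne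
  have hcn : Nontrivial (Subgroup.center (T : Subgroup G)) := T.isPGroup'.center_nontrivial
  have hpc : IsPGroup 2 (Subgroup.center (T : Subgroup G)) := T.isPGroup'.to_subgroup _
  obtain ⟨n, hn, hcard⟩ := hpc.nontrivial_iff_card.mp hcn
  have heven : Even (Nat.card (Subgroup.center (T : Subgroup G))) := by
    rw [hcard]; exact (Nat.even_pow.mpr ⟨even_two, by omega⟩)
  obtain ⟨z, hz, hzo⟩ := exists_inv_of_even_card _ heven
  refine ⟨(z : G), z.2, ?_, ?_⟩
  · have h1 : orderOf (z : G) = orderOf z := Subgroup.orderOf_coe z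
    rw [h1, hzo]
  · intro a ha
    have := (Subgroup.mem_center_iff.mp hz) ⟨a, ha⟩
    exact congrArg Subtype.val this

theorem good_ne_bot {T : Sylow 2 G} (hT : Good T) : (T : Subgroup G) ≠ ⊥ := by
  intro h
  apply hT.1
  rw [h]
  exact inferInstance

theorem exists_inv_mem {T : Sylow 2 G} (hne : (T : Subgroup G) ≠ ⊥) :
    ∃ u : G, orderOf u = 2 ∧ u ∈ (T : Subgroup G) := by
  obtain ⟨u, hu, ho, -⟩ := exists_central_inv T hne
  exact ⟨u, ho, hu⟩

section H

variable (hH : Hyp G)
include hH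

/-- Sylow 2-subgroups are commutative -/
theorem syl_comm (T : Sylow 2 G) {a b : G} (ha : a ∈ (T : Subgroup G)) (hb : b ∈ (T : Subgroup G)) :
    a * b = b * a := by
  by_cases hne : (T : Subgroup G) = ⊥
  · rw [hne, Subgroup.mem_bot] at ha hb
    rw [ha, hb]
  · obtain ⟨t₀, -, ho, hcomm⟩ := exists_central_inv T hne
    exact hH t₀ ho a b (hcomm a ha) (hcomm b hb)

theorem T_le_MT (T : Sylow 2 G) : (T : Subgroup G) ≤ MT T := by
  intro a ha
  rw [mem_MT]
  intro s hs
  exact syl_comm hH T hs ha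

/-- the centralizer of an involution of `T` is the centralizer of `T` -/
theorem mem_MT_iff (T : Sylow 2 G) {u : G} (hu : orderOf u = 2) (huT : u ∈ (T : Subgroup G)) (x : G) :
    x ∈ MT T ↔ x * u = u * x := by
  rw [mem_MT]
  constructor
  · intro h
    exact (h u huT).symm
  · intro h s hs
    exact hH u hu s x (syl_comm hH T hs huT) h

/-- the centralizer of a nontrivial Sylow 2-subgroup is commutative -/
theorem MT_comm (T : Sylow 2 G) (hne : (T : Subgroup G) ≠ ⊥) {a b : G} (ha : a ∈ MT T) (hb : b ∈ MT T) :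
    a * b = b * a := by
  obtain ⟨u, ho, hu⟩ := exists_inv_mem hne
  exact hH u ho a b ((mem_MT_iff hH T ho hu a).mp ha) ((mem_MT_iff hH T ho hu b).mp hb)

/-- 2-elements of the centralizer of `T` lie in `T` -/
theorem two_elt_MT_mem (T : Sylow 2 G) {x : G} (hx : x ∈ MT T) {k : ℕ} (hk : x ^ 2 ^ k = 1) :
    x ∈ (T : Subgroup G) := two_elt_NT_mem T (MT_le_NT T hx) hk

/-- an involution lies in a unique Sylow 2-subgroup -/
theorem syl_eq_of_inv_mem (P Q : Sylow 2 G) {u : G} (hu : orderOf u = 2) (huP : u ∈ (P : Subgroup G))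
    (huQ : u ∈ (Q : Subgroup G)) : P = Q := by
  have : Fact (Nat.Prime 2) := ⟨Nat.prime_two⟩
  have hle : (Q : Subgroup G) ≤ (P : Subgroup G) := by
    intro x hx
    have h1 : x ∈ MT Q := T_le_MT hH Q hx
    have h2 : x ∈ MT P := (mem_MT_iff hH P hu huP x).mpr ((mem_MT_iff hH Q hu huQ x).mp h1)
    obtain ⟨k, hk⟩ := (Q.isPGroup' ⟨x, hx⟩)
    have hk' : x ^ 2 ^ k = 1 := by
      have := congrArg Subtype.val hk
      simpa using this
    exact two_elt_MT_mem hH P h2 hk'
  have := Q.is_maximal' P.isPGroup' hle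
  exact Sylow.ext this

/-- if `g u g⁻¹ ∈ P` for an involution `u ∈ P` then `g` normalizes `P` -/
theorem mem_NT_of_conj_mem (P : Sylow 2 G) {u g : G} (hu : orderOf u = 2) (huP : u ∈ (P : Subgroup G))
    (hg : g * u * g⁻¹ ∈ (P : Subgroup G)) : g ∈ NT P := by
  rw [← smul_syl_eq_iff]
  have h1 : g * u * g⁻¹ ∈ ((g • P : Sylow 2 G) : Subgroup G) := by
    rw [mem_smul_syl]
    have : g⁻¹ * (g * u * g⁻¹) * g = u := by group
    rw [this]; exact huP
  have ho : orderOf (g * u * g⁻¹) = 2 := by rw [orderOf_conj_eq]; exact hu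
  exact syl_eq_of_inv_mem hH (g • P) P ho h1 hg

end H

theorem good_smul {P : Sylow 2 G} (hP : Good P) (g : G) : Good (g • P) := by
  constructor
  · intro hc
    apply hP.1
    have e : (P : Subgroup G) ≃* ((g • P : Sylow 2 G) : Subgroup G) := by
      rw [Sylow.coe_subgroup_smul]
      exact Subgroup.equivSMul (MulAut.conj g) (P : Subgroup G)
    exact isCyclic_of_surjective e.symm.toMonoidHom e.symm.surjective
  · intro hn
    apply hP.2
    have h1 : ∀ x : G, x ∈ NT (g • P) := fun x => by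
      have := Subgroup.normalizer_eq_top_iff.mpr hn
      rw [NT, this]; exact Subgroup.mem_top x
    apply Subgroup.normalizer_eq_top_iff.mp
    rw [eq_top_iff]
    intro x _
    have := (mem_NT_smul g P (g * x * g⁻¹)).mp (h1 _)
    have e : g⁻¹ * (g * x * g⁻¹) * g = x := by group
    rw [e] at this
    exact this

theorem good_all {P : Sylow 2 G} (hP : Good P) (Q : Sylow 2 G) : Good Q := by
  obtain ⟨g, rfl⟩ := exists_conj_syl P Q
  exact good_smul hP g

end Cfsg.Agent.H26.AIC
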