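import Cfsg.Agent.H26.AIC.Basic
import Cfsg.Agent.H24.QuadSL2

set_option autoImplicit false
set_option linter.style.haveILetI false
set_option linter.unusedSectionVars false
set_option linter.unusedVariables false

/-! S2202 piece SE: the normalizer of a good Sylow 2-subgroup is strongly embedded. -/

namespace Cfsg.Agent.H26.AICP

open Subgroup Cfsg.Agent.H26 Cfsg.Agent.H26.AIC

variable {G : Type*} [Group G] [Finite G]

theorem exists_two_inv (hH : Hyp G) (P : Sylow 2 G) (hnc : ¬ IsCyclic (P : Subgroup G)) :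
    ∃ u v : G, orderOf u = 2 ∧ u ∈ (P : Subgroup G) ∧ orderOf v = 2 ∧ v ∈ (P : Subgroup G) ∧ u ≠ v := by
  by_contra hcon
  apply hnc
  apply Cfsg.Agent.H24.Quad.isCyclic_of_comm_unique_invol P.isPGroup'
  · intro a b; exact Subtype.ext (syl_comm hH P a.2 b.2)
  · intro a b ha hb ha1 hb1
    by_contra hab
    apply hcon
    refine ⟨a, b, ?_, a.2, ?_, b.2, fun h => hab (Subtype.ext h)⟩
    · exact orderOf_eq_two_of (congrArg Subtype.val ha) (fun h => ha1 (Subtype.ext h))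
    · exact orderOf_eq_two_of (congrArg Subtype.val hb) (fun h => hb1 (Subtype.ext h))

theorem NT_se (hH : Hyp G) (P : Sylow 2 G) (hP : Good P) : Cfsg.IsStronglyEmbedded (NT P) := by
  refine ⟨?_, ?_, ?_⟩
  · intro h; exact hP.2 (Subgroup.normalizer_eq_top_iff.mp h)
  · obtain ⟨u, ho, hu⟩ := exists_inv_mem (good_ne_bot hP)
    exact even_card_of_inv_mem _ ho (Subgroup.le_normalizer hu)
  · intro g hg
    by_contra hodd
    rw [Nat.not_odd_iff_even] at hodd
    obtain ⟨s, hs, hso⟩ := exists_inv_of_even_card _ hodd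
    have hsT : s ∈ (P : Subgroup G) := inv_NT_mem P hso hs.1
    have hs2 : g⁻¹ * s * g ∈ NT P := (mem_map_conj_iff _ g s).mp hs.2
    have hso2 : orderOf (g⁻¹ * s * g) = 2 := by
      have := orderOf_conj_eq g⁻¹ s
      rw [inv_inv] at this
      rw [this, hso]
    have hsT2 : g⁻¹ * s * g ∈ (P : Subgroup G) := inv_NT_mem P hso2 hs2
    have h1 : g⁻¹ ∈ NT P := mem_NT_of_conj_mem hH P hso hsT (by simpa using hsT2)
    exact hg (by simpa using (NT P).inv_mem h1)

theorem exists_inv_coset (hH : Hyp G) (P : Sylow 2 G) (hP : Good P) {g : G} (hg : g ∉ NT P) :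
    ∃ t : G, orderOf t = 2 ∧ t ∉ NT P ∧ t⁻¹ * g ∈ NT P := by
  have hse := NT_se hH P hP
  have hcard := se_card_swap hse hg
  have hpos : 0 < Nat.card {t : G // orderOf t = 2 ∧ t ∈ NT P} := by
    obtain ⟨t, ht1, ht2⟩ := se_exists_inv hse
    have : Nonempty {t : G // orderOf t = 2 ∧ t ∈ NT P} := ⟨⟨t, ht1, ht2⟩⟩
    exact Nat.card_pos
  rw [← hcard] at hpos
  obtain ⟨⟨u, hu1, hu2⟩⟩ := (Nat.card_pos_iff.mp hpos).1
  refine ⟨u, hu1, ?_, hu2⟩
  intro hu
  apply hg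
  have := (NT P).mul_mem hu hu2
  simpa using this

theorem NT_trans (hH : Hyp G) (P : Sylow 2 G) (hP : Good P) {u v : G} (hu : orderOf u = 2)
    (huP : u ∈ (P : Subgroup G)) (hv : orderOf v = 2) (hvP : v ∈ (P : Subgroup G)) :
    ∃ h ∈ NT P, h * u * h⁻¹ = v := by
  have hse := NT_se hH P hP
  obtain ⟨g, hg⟩ : ∃ g, g ∉ NT P := by
    by_contra hcon
    apply hse.1
    rw [eq_top_iff]
    intro g _
    by_contra hg
    exact hcon ⟨g, hg⟩
  obtain ⟨t, ht, htN, -⟩ := exists_inv_coset hH P hP hg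
  have hc := se_all_conj hse ht htN hu (Subgroup.le_normalizer huP) hv
  obtain ⟨c, hc⟩ := isConj_iff.mp hc
  exact ⟨c, mem_NT_of_conj_mem hH P hu huP (by rw [hc]; exact hvP), hc⟩

theorem card_NT (hH : Hyp G) (P : Sylow 2 G) (hP : Good P) :
    Nat.card (NT P) = Nat.card (MT P) * Nat.card {s : G // orderOf s = 2 ∧ s ∈ (P : Subgroup G)} := by
  classical
  obtain ⟨u, hu, huP⟩ := exists_inv_mem (good_ne_bot hP)
  have hex : ∀ s : {s : G // orderOf s = 2 ∧ s ∈ (P : Subgroup G)}, ∃ h ∈ NT P, h * u * h⁻¹ = s.1 :=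
    fun s => NT_trans hH P hP hu huP s.2.1 s.2.2
  choose hs hsN hsu using hex
  let f : {s : G // orderOf s = 2 ∧ s ∈ (P : Subgroup G)} × MT P → NT P := fun x =>
    ⟨hs x.1 * x.2.1, (NT P).mul_mem (hsN x.1) (MT_le_NT P x.2.2)⟩
  have hφ : ∀ (s : {s : G // orderOf s = 2 ∧ s ∈ (P : Subgroup G)}) (m : MT P),
      (hs s * m.1) * u * (hs s * m.1)⁻¹ = s.1 := by
    intro s m
    have hm : m.1 * u = u * m.1 := (mem_MT_iff hH P hu huP m.1).mp m.2
    calc (hs s * m.1) * u * (hs s * m.1)⁻¹ = hs s * (m.1 * u) * m.1⁻¹ * (hs s)⁻¹ := by group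
      _ = hs s * (u * m.1) * m.1⁻¹ * (hs s)⁻¹ := by rw [hm]
      _ = hs s * u * (hs s)⁻¹ := by group
      _ = s.1 := hsu s
  have hinj : Function.Injective f := by
    rintro ⟨s, m⟩ ⟨s', m'⟩ h
    have h' : hs s * m.1 = hs s' * m'.1 := congrArg Subtype.val h
    have h1 : s.1 = s'.1 := by rw [← hφ s m, ← hφ s' m', h']
    have h2 : s = s' := Subtype.ext h1
    subst h2
    have h3 : m.1 = m'.1 := mul_left_cancel h'
    rw [Subtype.ext h3]
  have hsurj : Function.Surjective f := by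
    rintro ⟨h, hh⟩
    have hc : h * u * h⁻¹ ∈ (P : Subgroup G) :=
      (Subgroup.mem_normalizer_iff.mp hh u).mp huP
    have ho : orderOf (h * u * h⁻¹) = 2 := by rw [orderOf_conj_eq]; exact hu
    let s : {s : G // orderOf s = 2 ∧ s ∈ (P : Subgroup G)} := ⟨h * u * h⁻¹, ho, hc⟩
    have hm : (hs s)⁻¹ * h ∈ MT P := by
      rw [mem_MT_iff hH P hu huP]
      have h1 : hs s * u * (hs s)⁻¹ = h * u * h⁻¹ := hsu s
      calc (hs s)⁻¹ * h * u = (hs s)⁻¹ * (h * u * h⁻¹) * h := by group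
        _ = (hs s)⁻¹ * (hs s * u * (hs s)⁻¹) * h := by rw [h1]
        _ = u * ((hs s)⁻¹ * h) := by group
    refine ⟨(s, ⟨(hs s)⁻¹ * h, hm⟩), ?_⟩
    apply Subtype.ext
    show hs s * ((hs s)⁻¹ * h) = h
    group
  have := Nat.card_congr (Equiv.ofBijective f ⟨hinj, hsurj⟩)
  rw [← this, Nat.card_prod, mul_comm]

end Cfsg.Agent.H26.AICP
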