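import Cfsg.Agent.H26.AIC.Basic
import Cfsg.Agent.H26.AIC.PSE
import Cfsg.Agent.H73.AIC_MAXODD
import Cfsg.Agent.H73.AIC_NOINV
import Cfsg.Agent.H73.AIC_QUOT
import Cfsg.Agent.H61.AIC_OG
import Cfsg.Agent.H34.AIC_PSL
import Cfsg.Agent.H11.AIC_SLCA
import Cfsg.Agent.Lib.Helper96.AicSlCyc
import Cfsg.Agent.Lib.Helper96.AicTransfer
import Cfsg.Agent.H80.AIC_QGOOD
import Cfsg.Agent.H80.AIC_SUBGOOD
import Cfsg.Agent.H80.AIC_CITBIG

set_option autoImplicit false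
set_option linter.style.haveILetI false
set_option linter.unusedSectionVars false
set_option linter.unusedVariables false

/-! S2202 skeleton, layer 1.  Pieces of this layer import only `Cfsg.Agent.H26.AIC.Basic`. -/

namespace Cfsg.Agent.H26.AIC

open Subgroup Cfsg.Agent.H26

variable {G : Type*} [Group G] [Finite G]

/-! ### Piece S2202-SE -/

theorem exists_two_inv (hH : Hyp G) (P : Sylow 2 G) (hnc : ¬ IsCyclic (P : Subgroup G)) :
    ∃ u v : G, orderOf u = 2 ∧ u ∈ (P : Subgroup G) ∧ orderOf v = 2 ∧ v ∈ (P : Subgroup G) ∧ u ≠ v :=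
  Cfsg.Agent.H26.AICP.exists_two_inv hH P hnc

theorem NT_se (hH : Hyp G) (P : Sylow 2 G) (hP : Good P) : Cfsg.IsStronglyEmbedded (NT P) :=
  Cfsg.Agent.H26.AICP.NT_se hH P hP

theorem exists_inv_coset (hH : Hyp G) (P : Sylow 2 G) (hP : Good P) {g : G} (hg : g ∉ NT P) :
    ∃ t : G, orderOf t = 2 ∧ t ∉ NT P ∧ t⁻¹ * g ∈ NT P :=
  Cfsg.Agent.H26.AICP.exists_inv_coset hH P hP hg

theorem NT_trans (hH : Hyp G) (P : Sylow 2 G) (hP : Good P) {u v : G} (hu : orderOf u = 2)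
    (huP : u ∈ (P : Subgroup G)) (hv : orderOf v = 2) (hvP : v ∈ (P : Subgroup G)) :
    ∃ h ∈ NT P, h * u * h⁻¹ = v :=
  Cfsg.Agent.H26.AICP.NT_trans hH P hP hu huP hv hvP

theorem card_NT (hH : Hyp G) (P : Sylow 2 G) (hP : Good P) :
    Nat.card (NT P) = Nat.card (MT P) * Nat.card {s : G // orderOf s = 2 ∧ s ∈ (P : Subgroup G)} :=
  Cfsg.Agent.H26.AICP.card_NT hH P hP

/-! ### Piece S2202-NOINV -/

theorem no_invert (hH : Hyp G) (P : Sylow 2 G) {c t : G} (hc : c ∈ MT P) (ht : orderOf t = 2)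
    (hinv : t * c * t⁻¹ = c⁻¹) : c * c = 1 :=
  Cfsg.Agent.H73.AIC.no_invert hH P hc ht hinv

/-! ### Piece S2202-OG -/

theorem odd_normal_le_cent (hH : Hyp G) {u v : G} (hu : orderOf u = 2) (hv : orderOf v = 2)
    (huv : u * v = v * u) (hne : u ≠ v) (Y : Subgroup G) (hY : Y.Normal) (hodd : Odd (Nat.card Y)) :
    ∀ y ∈ Y, y * u = u * y :=
  Cfsg.Agent.H61.AIC.odd_normal_le_cent hH hu hv huv hne Y hY hodd

/-! ### Piece S2202-QUOT -/

theorem quot_lift_inv (N : Subgroup G) [N.Normal] (hodd : Odd (Nat.card N)) {y : G ⧸ N}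
    (hy : orderOf y = 2) : ∃ u : G, orderOf u = 2 ∧ (u : G ⧸ N) = y :=
  Cfsg.Agent.H73.AIC.quot_lift_inv N hodd hy

theorem quot_lift_comm (N : Subgroup G) [N.Normal] (hodd : Odd (Nat.card N)) {u x : G}
    (hu : orderOf u = 2) (h : (x : G ⧸ N) * (u : G ⧸ N) = (u : G ⧸ N) * (x : G ⧸ N)) :
    ∃ x' : G, (x' : G ⧸ N) = (x : G ⧸ N) ∧ x' * u = u * x' :=
  Cfsg.Agent.H73.AIC.quot_lift_comm N hodd hu h

theorem quot_hyp (hH : Hyp G) (N : Subgroup G) [N.Normal] (hodd : Odd (Nat.card N)) : Hyp (G ⧸ N) :=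
  Cfsg.Agent.H73.AIC.quot_hyp hH N hodd

theorem quot_exp2 (N : Subgroup G) [N.Normal] (hodd : Odd (Nat.card N))
    (h : ∀ x u : G, orderOf u = 2 → x * u = u * x → x * x ∈ N) : Exp2 (G ⧸ N) :=
  Cfsg.Agent.H73.AIC.quot_exp2 N hodd h

theorem exp2_quot_imp (N : Subgroup G) [N.Normal] (hodd : Odd (Nat.card N)) (hE : Exp2 (G ⧸ N))
    {u x : G} (hu : orderOf u = 2) (hx : x * u = u * x) : x * x ∈ N :=
  Cfsg.Agent.H73.AIC.exp2_quot_imp N hodd hE hu hx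

/-! ### Piece S2202-QGOOD -/

theorem quot_good (hH : Hyp G) (P : Sylow 2 G) (hP : Good P) (N : Subgroup G) [N.Normal]
    (hodd : Odd (Nat.card N)) (hN : N ≤ NT P) : ∃ T : Sylow 2 (G ⧸ N), Good T :=
  Cfsg.Agent.H80.AIC.quot_good hH P hP N hodd hN

/-! ### Piece S2202-MAXODD -/

theorem exists_max_odd_normal (G : Type*) [Group G] [Finite G] :
    ∃ N : Subgroup G, N.Normal ∧ Odd (Nat.card N) ∧
      ∀ Y : Subgroup G, Y.Normal → Odd (Nat.card Y) → Y ≤ N :=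
  Cfsg.Agent.H73.AIC.exists_max_odd_normal G

theorem quot_noOdd (N : Subgroup G) [N.Normal] (hodd : Odd (Nat.card N))
    (hmax : ∀ Y : Subgroup G, Y.Normal → Odd (Nat.card Y) → Y ≤ N) : NoOdd (G ⧸ N) :=
  Cfsg.Agent.H73.AIC.quot_noOdd N hodd hmax

/-! ### Piece S2202-SUBGOOD -/

theorem sub_good (hH : Hyp G) (L : Subgroup G) (P Q : Sylow 2 G) (hP : Good P) (hPQ : P ≠ Q)
    (hPL : (P : Subgroup G) ≤ L) (hQL : (Q : Subgroup G) ≤ L) :
    ∃ T : Sylow 2 L, Good T ∧ ∀ x : L, x ∈ (T : Subgroup L) ↔ (x : G) ∈ (P : Subgroup G) :=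
  Cfsg.Agent.H80.AIC.sub_good hH L P Q hP hPQ hPL hQL

/-! ### Piece S2202-PSL -/

theorem psl_equiv_sl (F : Type) [Field F] [Fintype F] [CharP F 2] :
    Nonempty (Matrix.ProjectiveSpecialLinearGroup (Fin 2) F ≃* Matrix.SpecialLinearGroup (Fin 2) F) :=
  Cfsg.Agent.H34.AIC.psl_equiv_sl F

theorem charP_two_of_card (F : Type) [Field F] [Fintype F] {k : ℕ} (hk : 1 ≤ k)
    (h : Fintype.card F = 2 ^ k) : CharP F 2 :=
  Cfsg.Agent.H34.AIC.charP_two_of_card F hk h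

/-! ### Piece S2202-SLCA -/

theorem sl2_cent_comm (F : Type*) [Field F] [CharP F 2] (x a b : Matrix.SpecialLinearGroup (Fin 2) F)
    (hx : x ≠ 1) (ha : a * x = x * a) (hb : b * x = x * b) : a * b = b * a :=
  Cfsg.Agent.H11.AIC.sl2_cent_comm F x a b hx ha hb

/-! ### Piece S2202-SLCYC -/

theorem sl2_odd_abelian_cyclic (F : Type*) [Field F] [Finite F] [CharP F 2]
    (A : Subgroup (Matrix.SpecialLinearGroup (Fin 2) F)) (hcomm : ∀ a ∈ A, ∀ b ∈ A, a * b = b * a)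
    (hodd : Odd (Nat.card A)) : IsCyclic A :=
  Cfsg.Agent.Lib.Helper96.Aic.sl2_odd_abelian_cyclic F A hcomm hodd

/-! ### Piece S2202-TRANSFER -/

theorem center_inf_commutator_sylow {G : Type*} [Group G] [Finite G] {p : ℕ} [Fact p.Prime]
    (P : Sylow p G) (hP : ∀ a ∈ (P : Subgroup G), ∀ b ∈ (P : Subgroup G), a * b = b * a) {z : G}
    (hzP : z ∈ (P : Subgroup G)) (hzZ : z ∈ Subgroup.center G) (hzC : z ∈ commutator G) : z = 1 :=
  Cfsg.Agent.Lib.Helper96.Aic.center_inf_commutator_sylow P hP hzP hzZ hzC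

/-! ### Piece S2202-CITBIG -/

theorem cit_no_odd_big {X : Type*} [Group X] [Finite X] (T : Sylow 2 X)
    (hnc : ¬ IsCyclic (T : Subgroup X)) (hnn : ¬ (T : Subgroup X).Normal) (hC : CITHyp X)
    (Y : Subgroup X) (hY : Odd (Nat.card Y))
    (hbig : Nat.card {t : X // orderOf t = 2} ≤ Nat.card Y) : False :=
  Cfsg.Agent.H80.AIC.cit_no_odd_big T hnc hnn hC Y hY hbig

end Cfsg.Agent.H26.AIC
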