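import Cfsg.Agent.H26.AIC.L1
import Cfsg.Agent.H34.AIC_SLSYL
import Cfsg.Agent.H61.AIC_SPLIT
import Cfsg.Agent.H84.AIC_J
import Cfsg.Agent.H61.AIC_COUNT

set_option autoImplicit false
set_option linter.style.haveILetI false
set_option linter.unusedSectionVars false
set_option linter.unusedVariables false

/-! S2202 skeleton, layer 2.  Pieces of this layer import `Cfsg.Agent.H26.AIC.L1`. -/

namespace Cfsg.Agent.H26.AIC

open Subgroup Cfsg.Agent.H26

variable {G : Type*} [Group G] [Finite G]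

/-- the elements of `NT P` inverted by `t` -/
def JSet (P : Sylow 2 G) (t : G) : Set G := {d | d ∈ NT P ∧ t * d * t⁻¹ = d⁻¹}

/-! ### Piece S2202-J -/

theorem J_sub_Dg (P : Sylow 2 G) {t d : G} (ht : orderOf t = 2) (hd : d ∈ JSet P t) :
    d ∈ Dg (NT P) t :=
  Cfsg.Agent.H84.AIC.J_sub_Dg P ht hd

theorem Dg_odd (hH : Hyp G) (P : Sylow 2 G) (hP : Good P) {g : G} (hg : g ∉ NT P) :
    Odd (Nat.card (Dg (NT P) g)) :=
  Cfsg.Agent.H84.AIC.Dg_odd hH P hP hg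

theorem J_card (hH : Hyp G) (P : Sylow 2 G) (hP : Good P) {t : G} (ht : orderOf t = 2)
    (htN : t ∉ NT P) :
    Nat.card (JSet P t) = Nat.card {s : G // orderOf s = 2 ∧ s ∈ (P : Subgroup G)} :=
  Cfsg.Agent.H84.AIC.J_card hH P hP ht htN

theorem J_inj (hH : Hyp G) (P : Sylow 2 G) (hP : Good P) {t : G} (ht : orderOf t = 2)
    (htN : t ∉ NT P) {d d' : G} (hd : d ∈ JSet P t) (hd' : d' ∈ JSet P t)
    (h : d⁻¹ * d' ∈ MT P) : d = d' :=
  Cfsg.Agent.H84.AIC.J_inj hH P hP ht htN hd hd' h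

theorem J_surj (hH : Hyp G) (P : Sylow 2 G) (hP : Good P) {t : G} (ht : orderOf t = 2)
    (htN : t ∉ NT P) {h : G} (hh : h ∈ NT P) : ∃ d ∈ JSet P t, d⁻¹ * h ∈ MT P :=
  Cfsg.Agent.H84.AIC.J_surj hH P hP ht htN hh

/-! ### Piece S2202-SLSYL -/

theorem sl2_sylow_cyclic (F : Type*) [Field F] [Finite F] [CharP F 2] {p : ℕ} [Fact p.Prime]
    (hp : p ≠ 2) (Q : Sylow p (Matrix.SpecialLinearGroup (Fin 2) F)) :
    IsCyclic (Q : Subgroup (Matrix.SpecialLinearGroup (Fin 2) F)) :=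
  Cfsg.Agent.H34.AIC.sl2_sylow_cyclic F hp Q

/-! ### Piece S2202-SPLIT -/

theorem central_split {G : Type*} [Group G] [Finite G] (N : Subgroup G) [N.Normal]
    (hN : N ≤ Subgroup.center G)
    (hcyc : ∀ (p : ℕ) [Fact p.Prime], p ∣ Nat.card N →
      ∀ Q : Sylow p (G ⧸ N), IsCyclic (Q : Subgroup (G ⧸ N)))
    (hgen : ∀ g : G, ∃ n ∈ N, g * n ∈ commutator G) :
    Nonempty (G ≃* (G ⧸ N) × N) :=
  Cfsg.Agent.H61.AIC.central_split N hN hcyc hgen

/-! ### Piece S2202-COUNT -/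

theorem nti_count (hH : Hyp G) (P : Sylow 2 G) (hP : Good P) (K : Subgroup G) (hKM : K ≤ MT P)
    (hodd : Odd (Nat.card K)) (hne : Subgroup.centralizer (K : Set G) ≠ ⊤)
    (hNT : NT P ≤ Subgroup.centralizer (K : Set G)) :
    ∃ (D : Subgroup G) (J : Set G), D ≤ Subgroup.centralizer (K : Set G) ∧ Odd (Nat.card D) ∧
      J ⊆ (D : Set G) ∧
      Nat.card J = Nat.card {t : G // orderOf t = 2 ∧ t ∈ Subgroup.centralizer (K : Set G)} ∧
      ∀ d ∈ J, ∀ d' ∈ J, d⁻¹ * d' ∈ K → d = d' :=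
  Cfsg.Agent.H61.AIC.nti_count hH P hP K hKM hodd hne hNT

/-! ### direct consequences of layer 1 (helper26) -/

theorem odd_normal_le_MT (hH : Hyp G) (P : Sylow 2 G) (hnc : ¬ IsCyclic (P : Subgroup G))
    (Y : Subgroup G) (hY : Y.Normal) (hodd : Odd (Nat.card Y)) : Y ≤ MT P := by
  obtain ⟨u, v, hu, huP, hv, hvP, huv⟩ := exists_two_inv hH P hnc
  intro y hy
  rw [mem_MT_iff hH P hu huP]
  exact odd_normal_le_cent hH hu hv (syl_comm hH P huP hvP) huv Y hY hodd y hy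

theorem quot_good' (hH : Hyp G) (P : Sylow 2 G) (hP : Good P) (N : Subgroup G) [N.Normal]
    (hodd : Odd (Nat.card N)) : ∃ T : Sylow 2 (G ⧸ N), Good T :=
  quot_good hH P hP N hodd
    ((odd_normal_le_MT hH P hP.1 N inferInstance hodd).trans (MT_le_NT P))

end Cfsg.Agent.H26.AIC
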