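import Cfsg.Agent.H26.AIC.L2
import Cfsg.Agent.H11.AIC_GEN
import Cfsg.Agent.H8.AIC_TIA
import Cfsg.Agent.H61.AIC_NCORE

set_option autoImplicit false
set_option linter.style.haveILetI false
set_option linter.unusedSectionVars false
set_option linter.unusedVariables false

/-! S2202 skeleton, layer 3.  Pieces of this layer import `Cfsg.Agent.H26.AIC.L2`. -/

namespace Cfsg.Agent.H26.AIC

open Subgroup Cfsg.Agent.H26

universe u

variable {G : Type*} [Group G] [Finite G]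

/-! ### Piece S2202-GEN -/

theorem gen_top (hH : Hyp G) (P : Sylow 2 G) (hP : Good P) (Z : Subgroup G) (hM : MT P ≤ Z)
    (hI : ∀ t : G, orderOf t = 2 → t ∈ Z) : Z = ⊤ :=
  Cfsg.Agent.H11.AIC.gen_top hH P hP Z hM hI

/-! ### Piece S2202-TIA -/

theorem ti_Dg_inter (hH : Hyp G) (hTI : TIHyp G) (P : Sylow 2 G) (hP : Good P) {g d : G}
    (hg : g ∉ NT P) (hd : d ∈ Dg (NT P) g) (hdM : d ∈ MT P) : d = 1 :=
  Cfsg.Agent.H8.AIC.ti_Dg_inter hH hTI P hP hg hd hdM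

/-! ### Piece S2202-NCORE -/

theorem nti_core {G : Type u} [Group G] [Finite G] (hH : Hyp G)
    (IH : ∀ (X : Type u) [Group X] [Finite X], Nat.card X < Nat.card G → Hyp X →
      (∃ T : Sylow 2 X, Good T) → NoOdd X → Exp2 X)
    (P Q : Sylow 2 G) (hP : Good P) (hPQ : P ≠ Q) (L : Subgroup G) (hL : L ≠ ⊤)
    (hPL : (P : Subgroup G) ≤ L) (hQL : (Q : Subgroup G) ≤ L) :
    ∃ K : Subgroup G, K ≤ L ∧ (∀ x ∈ L, ∀ k ∈ K, x * k * x⁻¹ ∈ K) ∧ Odd (Nat.card K) ∧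
      K ≤ MT P ∧ K ≤ MT Q ∧
      (∀ x ∈ L, ∀ u ∈ L, orderOf u = 2 → x * u = u * x → x * x ∈ K) :=
  Cfsg.Agent.H61.AIC.nti_core hH IH P Q hP hPQ L hL hPL hQL

end Cfsg.Agent.H26.AIC
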