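import Cfsg.Agent.H26.AIC.L3
import Cfsg.Agent.H11.AIC_CENTRAL
import Cfsg.Agent.H75.AIC_TIB
import Cfsg.Agent.H11.AIC_NSTRUCT

set_option autoImplicit false
set_option linter.style.haveILetI false
set_option linter.unusedSectionVars false
set_option linter.unusedVariables false

/-! S2202 skeleton, layer 4.  Pieces of this layer import `Cfsg.Agent.H26.AIC.L3`. -/

namespace Cfsg.Agent.H26.AIC

open Subgroup Cfsg.Agent.H26

universe u

variable {G : Type*} [Group G] [Finite G]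

/-! ### Piece S2202-TIB -/

theorem ti_Dg_inverted (hH : Hyp G) (hTI : TIHyp G) (P : Sylow 2 G) (hP : Good P) {t d : G}
    (ht : orderOf t = 2) (htN : t ∉ NT P) (hd : d ∈ Dg (NT P) t) : t * d * t⁻¹ = d⁻¹ :=
  Cfsg.Agent.H75.AIC.ti_Dg_inverted hH hTI P hP ht htN hd

theorem ti_Dg_card (hH : Hyp G) (hTI : TIHyp G) (P : Sylow 2 G) (hP : Good P) {g : G}
    (hg : g ∉ NT P) :
    Nat.card (Dg (NT P) g) = Nat.card {s : G // orderOf s = 2 ∧ s ∈ (P : Subgroup G)} :=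
  Cfsg.Agent.H75.AIC.ti_Dg_card hH hTI P hP hg

theorem ti_Dg_comm (hH : Hyp G) (hTI : TIHyp G) (P : Sylow 2 G) (hP : Good P) {g d e : G}
    (hg : g ∉ NT P) (hd : d ∈ Dg (NT P) g) (he : e ∈ Dg (NT P) g) : d * e = e * d :=
  Cfsg.Agent.H75.AIC.ti_Dg_comm hH hTI P hP hg hd he

theorem ti_NT_eq (hH : Hyp G) (hTI : TIHyp G) (P : Sylow 2 G) (hP : Good P) {g h : G}
    (hg : g ∉ NT P) (hh : h ∈ NT P) : ∃ d ∈ Dg (NT P) g, ∃ m ∈ MT P, h = d * m :=
  Cfsg.Agent.H75.AIC.ti_NT_eq hH hTI P hP hg hh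

/-! ### Piece S2202-NSTRUCT -/

theorem nti_struct {G : Type u} [Group G] [Finite G] (hH : Hyp G) (hNO : NoOdd G)
    (IH : ∀ (X : Type u) [Group X] [Finite X], Nat.card X < Nat.card G → Hyp X →
      (∃ T : Sylow 2 X, Good T) → NoOdd X → Exp2 X)
    (P Q : Sylow 2 G) (hP : Good P) (hPQ : P ≠ Q) {c : G} (hc1 : c ≠ 1) (hcP : c ∈ MT P)
    (hcQ : c ∈ MT Q) :
    ∃ K : Subgroup G, Odd (Nat.card K) ∧ K ≤ MT P ∧ K ≤ MT Q ∧
      Subgroup.centralizer (K : Set G) ≠ ⊤ ∧ NT P ≤ Subgroup.centralizer (K : Set G) ∧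
      (∀ x ∈ Subgroup.centralizer (K : Set G), ∀ u ∈ Subgroup.centralizer (K : Set G),
        orderOf u = 2 → x * u = u * x → x * x ∈ K) :=
  Cfsg.Agent.H11.AIC.nti_struct hH hNO IH P Q hP hPQ hc1 hcP hcQ

/-! ### Piece S2202-CENTRAL -/

theorem odd_normal_central (hH : Hyp G) (P : Sylow 2 G) (hP : Good P) (N : Subgroup G)
    (hN : N.Normal) (hodd : Odd (Nat.card N)) : N ≤ Subgroup.center G :=
  Cfsg.Agent.H11.AIC.odd_normal_central hH P hP N hN hodd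

theorem gen_by_comm_mod (hH : Hyp G) (P : Sylow 2 G) (hP : Good P) (N : Subgroup G) [N.Normal]
    (hodd : Odd (Nat.card N)) (hE : Exp2 (G ⧸ N)) :
    ∀ g : G, ∃ n ∈ N, g * n ∈ commutator G :=
  Cfsg.Agent.H11.AIC.gen_by_comm_mod hH P hP N hodd hE

end Cfsg.Agent.H26.AIC
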