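import Cfsg.Agent.H26.AIC.L4
import Cfsg.Agent.H8.AIC_TIC
import Cfsg.Agent.H11.AIC_NFALSE

set_option autoImplicit false
set_option linter.style.haveILetI false
set_option linter.unusedSectionVars false
set_option linter.unusedVariables false

/-! S2202 skeleton, layer 5.  Pieces of this layer import `Cfsg.Agent.H26.AIC.L4`. -/

namespace Cfsg.Agent.H26.AIC

open Subgroup Cfsg.Agent.H26

variable {G : Type*} [Group G] [Finite G]

/-! ### Piece S2202-TIC -/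

theorem ti_cent_free (hH : Hyp G) (hTI : TIHyp G) (P : Sylow 2 G) (hP : Good P) {g d m : G}
    (hg : g ∉ NT P) (hd : d ∈ Dg (NT P) g) (hd1 : d ≠ 1) (hm : m ∈ MT P) (hc : m * d = d * m) :
    m = 1 :=
  Cfsg.Agent.H8.AIC.ti_cent_free hH hTI P hP hg hd hd1 hm hc

theorem ti_fix (hH : Hyp G) (hTI : TIHyp G) (P : Sylow 2 G) (hP : Good P) {g g' d : G}
    (hg : g ∉ NT P) (hd : d ∈ Dg (NT P) g) (hd1 : d ≠ 1) (hfix : g'⁻¹ * d * g' ∈ NT P) :
    g' ∈ NT P ∨ g⁻¹ * g' ∈ NT P :=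
  Cfsg.Agent.H8.AIC.ti_fix hH hTI P hP hg hd hd1 hfix

/-! ### Piece S2202-NFALSE -/

theorem nti_false (hH : Hyp G) (P Q : Sylow 2 G) (hP : Good P) (hPQ : P ≠ Q) (K : Subgroup G)
    (hodd : Odd (Nat.card K)) (hKM : K ≤ MT P) (hKQ : K ≤ MT Q)
    (hne : Subgroup.centralizer (K : Set G) ≠ ⊤)
    (hNT : NT P ≤ Subgroup.centralizer (K : Set G))
    (hexp : ∀ x ∈ Subgroup.centralizer (K : Set G), ∀ u ∈ Subgroup.centralizer (K : Set G),
        orderOf u = 2 → x * u = u * x → x * x ∈ K) : False :=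
  Cfsg.Agent.H11.AIC.nti_false hH P Q hP hPQ K hodd hKM hKQ hne hNT hexp

end Cfsg.Agent.H26.AIC
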