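import Cfsg.Agent.H26.AIC.L5
import Cfsg.Agent.H19.ZId7
import Cfsg.Agent.H75.AIC_TID

set_option autoImplicit false
set_option linter.style.haveILetI false
set_option linter.unusedSectionVars false
set_option linter.unusedVariables false

/-! S2202 skeleton, layer 6.  Pieces of this layer import `Cfsg.Agent.H26.AIC.L5`. -/

namespace Cfsg.Agent.H26.AIC

open Subgroup Cfsg.Agent.H26

variable {G : Type*} [Group G] [Finite G]

/-! ### Piece S2202-TID -/

theorem ti_trans (hH : Hyp G) (hTI : TIHyp G) (P : Sylow 2 G) (hP : Good P) {g₁ g₂ : G}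
    (hg₁ : g₁ ∉ NT P) (hg₂ : g₂ ∉ NT P) : ∃ m ∈ MT P, (m * g₁)⁻¹ * g₂ ∈ NT P :=
  Cfsg.Agent.H75.AIC.ti_trans hH hTI P hP hg₁ hg₂

end Cfsg.Agent.H26.AIC
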