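import Cfsg.Agent.H26.AIC.L6
import Cfsg.Agent.Lib.Helper96.AicTie
import Cfsg.Agent.Lib.Helper96.AicZass

set_option autoImplicit false
set_option linter.style.haveILetI false
set_option linter.unusedSectionVars false
set_option linter.unusedVariables false

/-! S2202 skeleton, layer 7.  Pieces of this layer import `Cfsg.Agent.H26.AIC.L6`. -/

namespace Cfsg.Agent.H26.AIC

open Subgroup Cfsg.Agent.H26

variable {G : Type*} [Group G] [Finite G]

/-! ### Piece S2202-ZASS -/

theorem ti_zass (hH : Hyp G) (hTI : TIHyp G) (hNO : NoOdd G) (P : Sylow 2 G) (hP : Good P) :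
    Cfsg.IsZassenhausGroup G (G ⧸ NT P) :=
  Cfsg.Agent.Lib.Helper96.Aic.ti_zass hH hTI hNO P hP

/-! ### Piece S2202-TIE -/

theorem ti_exp2_of_zass (hH : Hyp G) (hTI : TIHyp G) (P : Sylow 2 G) (hP : Good P)
    (hZ : Cfsg.IsZassenhausGroup G (G ⧸ NT P)) : Exp2 G :=
  Cfsg.Agent.Lib.Helper96.Aic.ti_exp2_of_zass hH hTI P hP hZ

end Cfsg.Agent.H26.AIC
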