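import Cfsg.Agent.H26.AIC.L7
import Cfsg.Agent.S1230

set_option autoImplicit false
set_option linter.style.haveILetI false
set_option linter.unusedSectionVars false
set_option linter.unusedVariables false

/-! S2202: final assembly. -/

namespace Cfsg.Agent.H26.AIC

open Subgroup Cfsg.Agent.H26

universe u

theorem ti_exp2 {G : Type*} [Group G] [Finite G] (hH : Hyp G) (hTI : TIHyp G) (hNO : NoOdd G)
    (P : Sylow 2 G) (hP : Good P) : Exp2 G :=
  ti_exp2_of_zass hH hTI P hP (ti_zass hH hTI hNO P hP)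

/-- Core Lemma: no odd normal subgroup, a good Sylow 2-subgroup: involution centralizers have
exponent two. -/
theorem core_aux : ∀ (n : ℕ) (G : Type u) [Group G] [Finite G], Nat.card G = n → Hyp G →
    (∃ T : Sylow 2 G, Good T) → NoOdd G → Exp2 G := by
  intro n
  induction n using Nat.strong_induction_on with
  | _ n ih =>
    intro G _ _ hn hH hG hNO
    obtain ⟨T, hT⟩ := hG
    by_cases hTI : TIHyp G
    · exact ti_exp2 hH hTI hNO T hT
    · exfalso
      unfold TIHyp at hTI
      simp only [not_forall] at hTI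
      obtain ⟨P, Q, hPQ, c, hcP, hcQ, hc1⟩ := hTI
      have hP : Good P := good_all hT P
      have IH : ∀ (X : Type u) [Group X] [Finite X], Nat.card X < Nat.card G → Hyp X →
          (∃ T : Sylow 2 X, Good T) → NoOdd X → Exp2 X := by
        intro X _ _ hlt hX hXT hXN
        exact ih (Nat.card X) (by omega) X rfl hX hXT hXN
      obtain ⟨K, hodd, hKP, hKQ, hne, hNT, hexp⟩ := nti_struct hH hNO IH P Q hP hPQ hc1 hcP hcQ
      exact nti_false hH P Q hP hPQ K hodd hKP hKQ hne hNT hexp

/-- a copy of `Fin n` without algebraic structure -/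
def Carrier (n : ℕ) : Type := Fin n

instance (n : ℕ) : Finite (Carrier n) := inferInstanceAs (Finite (Fin n))

theorem card_carrier (n : ℕ) : Nat.card (Carrier n) = n := by
  show Nat.card (Fin n) = n
  exact Nat.card_fin n

theorem isCyclic_of_map_equiv {X Y : Type*} [Group X] [Group Y] (e : X ≃* Y) (Q : Subgroup X)
    (h : IsCyclic (Q.map e.toMonoidHom)) : IsCyclic Q := by
  have e' : Q ≃* Q.map e.toMonoidHom := e.subgroupMap Q
  exact isCyclic_of_surjective e'.symm.toMonoidHom e'.symm.surjective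

theorem main {G : Type u} [Group G] [Finite G] (hH : Hyp G) (S : Sylow 2 G) (hS : Good S) :
    ∃ (F : Type) (_ : Field F) (_ : Fintype F) (A : Type) (_ : CommGroup A) (_ : Finite A),
      CharP F 2 ∧ Odd (Nat.card A) ∧ Nonempty (G ≃* Matrix.SpecialLinearGroup (Fin 2) F × A) := by
  classical
  obtain ⟨N, hNn, hNodd, hNmax⟩ := exists_max_odd_normal G
  haveI := hNn
  have hHX : Hyp (G ⧸ N) := quot_hyp hH N hNodd
  obtain ⟨T, hT⟩ := quot_good' hH S hS N hNodd
  have hNO : NoOdd (G ⧸ N) := quot_noOdd N hNodd hNmax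
  have hE : Exp2 (G ⧸ N) := core_aux _ (G ⧸ N) rfl hHX ⟨T, hT⟩ hNO
  have hC : ∀ t : G ⧸ N, orderOf t = 2 →
      IsMulCommutative (Subgroup.centralizer ({t} : Set (G ⧸ N))) ∧
      ∀ c ∈ Subgroup.centralizer ({t} : Set (G ⧸ N)), c ^ 2 = 1 := by
    intro t ht
    constructor
    · refine ⟨⟨fun a b => ?_⟩⟩
      apply Subtype.ext
      have ha := Subgroup.mem_centralizer_iff.mp a.2 t rfl
      have hb := Subgroup.mem_centralizer_iff.mp b.2 t rfl
      exact hHX t ht a.1 b.1 ha.symm hb.symm
    · intro c hc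
      have hc' := Subgroup.mem_centralizer_iff.mp hc t rfl
      rw [pow_two]
      exact hE t ht c hc'.symm
  obtain ⟨F, iF, iFt, hcard, ⟨e⟩⟩ := Cfsg.Agent.S1230.result T hT.1 hT.2 hC
  -- characteristic two
  have : Fact (Nat.Prime 2) := ⟨Nat.prime_two⟩
  obtain ⟨k, hk⟩ := (IsPGroup.iff_card).mp T.isPGroup'
  have hk1 : 1 ≤ k := by
    by_contra hk0
    have hk0' : k = 0 := by omega
    rw [hk0', pow_zero] at hk
    apply hT.1
    have : Subsingleton (T : Subgroup (G ⧸ N)) := (Nat.card_eq_one_iff_unique.mp hk).1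
    exact inferInstance
  haveI hchar : CharP F 2 := charP_two_of_card F hk1 (hcard.trans hk)
  obtain ⟨e₁⟩ := psl_equiv_sl F
  let e' : G ⧸ N ≃* Matrix.SpecialLinearGroup (Fin 2) F := e.trans e₁
  have hNcent : N ≤ Subgroup.center G := odd_normal_central hH S hS N hNn hNodd
  have hcyc : ∀ (p : ℕ) [Fact p.Prime], p ∣ Nat.card N →
      ∀ Q : Sylow p (G ⧸ N), IsCyclic (Q : Subgroup (G ⧸ N)) := by
    intro p hp hpN Q
    have hp2 : p ≠ 2 := by
      rintro rfl
      exact (Nat.not_even_iff_odd.mpr hNodd) (even_iff_two_dvd.mpr hpN)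
    have hsurj : Function.Surjective e'.toMonoidHom := e'.surjective
    have h1 := sl2_sylow_cyclic F hp2 (Q.mapSurjective hsurj)
    rw [Sylow.coe_mapSurjective] at h1
    exact isCyclic_of_map_equiv e' _ h1
  have hgen := gen_by_comm_mod hH S hS N hNodd hE
  obtain ⟨e₂⟩ := central_split N hNcent hcyc hgen
  -- transport `N` to `Type`
  letI iN : CommGroup N :=
    { (inferInstance : Group N) with
      mul_comm := fun a b => by
        apply Subtype.ext
        have := Subgroup.mem_center_iff.mp (hNcent a.2) b.1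
        exact this.symm }
  let n := Nat.card N
  let eq : Carrier n ≃ N := (Finite.equivFin N).symm
  letI iA : CommGroup (Carrier n) := eq.commGroup
  let eqm : Carrier n ≃* N := eq.mulEquiv
  refine ⟨F, iF, iFt, Carrier n, iA, inferInstance, hchar, ?_, ⟨?_⟩⟩
  · rw [card_carrier]; exact hNodd
  · exact e₂.trans (MulEquiv.prodCongr e' eqm.symm)

end Cfsg.Agent.H26.AIC
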